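import Cfsg.Agent.H95.StemCover

/-!
# Multiplier of order four: the square of an automorphism which lifts to a double cover (helper92)
-/

set_option autoImplicit false
set_option maxHeartbeats 400000

namespace Cfsg.Agent.TO.D4B

open Cfsg Subgroup

/-- two lifts from a perfect group agree -/
theorem hom_unique {U G X : Type*} [Group U] [Group G] [Group X] (hU : commutator U = ⊤) {σ : G →* X}
    (hc : σ.ker ≤ center G) {f g : U →* G} (h : ∀ x, σ (f x) = σ (g x)) (x : U) : f x = g x := by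
  have h1 : commutator U ≤ f.eqLocus g := by
    refine Subgroup.commutator_le.2 fun a _ b _ => ?_
    have key : ∀ y, ∃ z ∈ center G, f y = z * g y := fun y =>
      ⟨f y * (g y)⁻¹, hc (by rw [MonoidHom.mem_ker, map_mul, map_inv, h, mul_inv_cancel]), by group⟩
    obtain ⟨z, hz, ha⟩ := key a
    obtain ⟨w, hw, hb⟩ := key b
    have hz' := Subgroup.mem_center_iff.1 hz
    have hw' := Subgroup.mem_center_iff.1 hw
    change f _ = g _
    rw [map_commutatorElement, map_commutatorElement, ha, hb, commutatorElement_def, commutatorElement_def]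
    calc z * g a * (w * g b) * (z * g a)⁻¹ * (w * g b)⁻¹
        = z * (g a * (w * g b) * (g a)⁻¹) * z⁻¹ * (w * g b)⁻¹ := by group
      _ = g a * (w * g b) * (g a)⁻¹ * (w * g b)⁻¹ := by rw [← hz', mul_inv_cancel_right]
      _ = (g a * w) * (g b * (g a)⁻¹ * (g b)⁻¹) * w⁻¹ := by group
      _ = w * (g a * (g b * (g a)⁻¹ * (g b)⁻¹)) * w⁻¹ := by rw [hw']; group
      _ = g a * g b * (g a)⁻¹ * (g b)⁻¹ := by rw [← hw', mul_inv_cancel_right]; group
  exact h1 (hU ▸ Subgroup.mem_top x)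

theorem fix_of_card_two {U : Type*} [Group U] {K : Subgroup U} (hK : Nat.card K = 2) {f : U →* U}
    (hf : Function.Injective f) (hm : ∀ x ∈ K, f x ∈ K) {x : U} (hx : x ∈ K) : f x = x ∧ x * x = 1 := by
  constructor
  · by_cases h1 : x = 1
    · rw [h1, map_one]
    · obtain ⟨y, -, hy⟩ := (Nat.card_eq_two_iff' (1 : K)).1 hK
      have h2 := hy ⟨x, hx⟩ (fun e => h1 (congrArg Subtype.val e))
      have h3 := hy ⟨f x, hm x hx⟩ (fun e => h1 (hf ((congrArg Subtype.val e).trans (map_one f).symm)))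
      exact congrArg Subtype.val (h3.trans h2.symm)
  · have h1 := pow_card_eq_one' (x := (⟨x, hx⟩ : K))
    rw [hK, pow_two] at h1
    exact congrArg Subtype.val h1

theorem card_ker_mul {U G : Type*} [Group U] [Group G] {f : U →* G} (hf : Function.Surjective f) :
    Nat.card f.ker * Nat.card G = Nat.card U := by
  rw [← Subgroup.card_mul_index f.ker, Subgroup.index_ker, MonoidHom.range_eq_top.2 hf, Subgroup.card_top]

universe u

/-- the lift of `α²` to the universal cover fixes the kernel pointwise -/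
theorem exists_fix {X : Type u} [Group X] [Finite X] {A : Type*} [CommGroup A] (hA : HasSchurMultiplier X A)
    (h4 : Nat.card A = 4) {G : Type*} [Group G] [Finite G] {σ : G →* X} (hG : commutator G = ⊤)
    (hs : Function.Surjective σ) (hc : σ.ker ≤ center G) (h2 : Nat.card σ.ker = 2) {α : MulAut X} {a : MulAut G}
    (h : ∀ g, σ (a g) = α (σ g)) : ∃ (U : Type u) (_ : Group U) (_ : Finite U) (ρ : U →* X) (γ : MulAut U),
      commutator U = ⊤ ∧ IsStemExtension ρ ∧ Nat.card ρ.ker = 4 ∧ (∀ x, ρ (γ x) = α (α (ρ x))) ∧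
        ∀ z, ρ z = 1 → γ z = z := by
  have : Finite A := Nat.finite_of_card_ne_zero (by omega)
  have hX : commutator X = ⊤ := by
    have h1 : (commutator G).map σ = ⁅σ.range, σ.range⁆ := map_commutator_eq G σ
    rw [hG, ← MonoidHom.range_eq_map, MonoidHom.range_eq_top.2 hs] at h1
    rw [commutator_def]; exact h1.symm
  obtain ⟨U, _, _, ρ, hρ, ⟨e⟩⟩ := hA.1
  have hU := H95.StemCover.perfect_of_stem hX hρ
  have hk : Nat.card ρ.ker = Nat.card A := Nat.card_congr e.toEquiv
  obtain ⟨φ, hφ, hφ'⟩ := H95.StemCover.exists_cover' hX hA ρ hρ hk hG σ hs hc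
  have hker : (α.toMonoidHom.comp ρ).ker = ρ.ker := by
    ext x
    simp [MonoidHom.mem_ker]
  obtain ⟨τ, hτ, hτ'⟩ := H95.StemCover.exists_cover hX hA (α.toMonoidHom.comp ρ)
    ⟨α.surjective.comp hρ.1, hker ▸ hρ.2.1, hker ▸ hρ.2.2⟩ (hker ▸ hk) ρ hρ
  have hτ2 : ∀ x, ρ (τ x) = α (ρ x) := hτ'
  have hinj : Function.Injective τ := Finite.injective_iff_surjective.2 hτ
  have hcomm : ∀ x, φ (τ x) = a (φ x) := fun x =>
    hom_unique hU hc (f := φ.comp τ) (g := a.toMonoidHom.comp φ) (fun y => by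
      change σ (φ (τ y)) = σ (a (φ y))
      rw [hφ', hτ2, h, hφ']) x
  have hK : Nat.card φ.ker = 2 := by
    have h5 := card_ker_mul hφ
    have h6 := card_ker_mul hs
    have h7 := card_ker_mul hρ.1
    rw [hk, h4] at h7
    rw [h2] at h6
    have h8 : 0 < Nat.card X := Nat.card_pos
    rw [← h6, ← h7] at h5
    have h9 : Nat.card φ.ker * 2 * Nat.card X = 4 * Nat.card X := by rw [← h5]; ring
    have := Nat.eq_of_mul_eq_mul_right h8 h9
    omega
  let τ' : MulAut U := MulEquiv.ofBijective τ ⟨hinj, hτ⟩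
  refine ⟨U, inferInstance, inferInstance, ρ, τ' * τ', hU, hρ, hk.trans h4, fun x => ?_, fun z hz => ?_⟩
  · change ρ (τ (τ x)) = _
    rw [hτ2, hτ2]
  · change τ (τ z) = z
    have h5 : a (φ z) = φ z := (fix_of_card_two h2 (f := a.toMonoidHom) a.injective (fun x hx => by
      change σ (a x) = 1
      rw [h, MonoidHom.mem_ker.1 hx, map_one]) (x := φ z) (by rw [MonoidHom.mem_ker, hφ', hz])).1
    have h6 : z⁻¹ * τ z ∈ φ.ker := by rw [MonoidHom.mem_ker, map_mul, map_inv, hcomm, h5, inv_mul_cancel]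
    obtain ⟨h7, h8⟩ := fix_of_card_two hK hinj (fun x hx => by
      rw [MonoidHom.mem_ker, hcomm, MonoidHom.mem_ker.1 hx, map_one]) h6
    have h9 : τ z = z * (z⁻¹ * τ z) := by group
    calc τ (τ z) = τ z * (z⁻¹ * τ z) := by rw [← h7, ← map_mul, ← h9]
      _ = z * ((z⁻¹ * τ z) * (z⁻¹ * τ z)) := by group
      _ = z := by rw [h8, mul_one]

/-- **`α²` lifts to every perfect central extension** -/
theorem lift_sq {X : Type u} [Group X] [Finite X] {A : Type*} [CommGroup A] (hA : HasSchurMultiplier X A)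
    (h4 : Nat.card A = 4) {G : Type*} [Group G] [Finite G] {σ : G →* X} (hG : commutator G = ⊤)
    (hs : Function.Surjective σ) (hc : σ.ker ≤ center G) (h2 : Nat.card σ.ker = 2) {α : MulAut X} {a : MulAut G}
    (h : ∀ g, σ (a g) = α (σ g)) {Γ : Type*} [Group Γ] [Finite Γ] {π : Γ →* X} (hΓ : commutator Γ = ⊤)
    (hπ : Function.Surjective π) (hπc : π.ker ≤ center Γ) : ∃ β : MulAut Γ, ∀ y, π (β y) = α (α (π y)) := by
  have : Finite A := Nat.finite_of_card_ne_zero (by omega)
  have hX : commutator X = ⊤ := by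
    have h1 : (commutator G).map σ = ⁅σ.range, σ.range⁆ := map_commutator_eq G σ
    rw [hG, ← MonoidHom.range_eq_map, MonoidHom.range_eq_top.2 hs] at h1
    rw [commutator_def]; exact h1.symm
  obtain ⟨U, _, _, ρ, γ, -, hρ, hk, h5, h6⟩ := exists_fix hA h4 hG hs hc h2 h
  obtain ⟨φ, hφ, hφ'⟩ := H95.StemCover.exists_cover' hX hA ρ hρ (hk.trans h4.symm) hΓ π hπ hπc
  have hle : φ.ker ≤ (φ.comp γ.toMonoidHom).ker := fun z hz => by
    change φ (γ z) = 1
    rw [h6 z (by rw [← hφ', MonoidHom.mem_ker.1 hz, map_one]), MonoidHom.mem_ker.1 hz]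
  let β := φ.liftOfSurjective hφ ⟨φ.comp γ.toMonoidHom, hle⟩
  have hβ : ∀ x, β (φ x) = φ (γ x) := fun x => φ.liftOfRightInverse_comp_apply _ _ ⟨φ.comp γ.toMonoidHom, hle⟩ x
  have hsurj : Function.Surjective β := fun y => by
    obtain ⟨x, rfl⟩ := hφ y
    exact ⟨φ (γ.symm x), by rw [hβ, MulEquiv.apply_symm_apply]⟩
  refine ⟨MulEquiv.ofBijective β ⟨Finite.injective_iff_surjective.2 hsurj, hsurj⟩, fun y => ?_⟩
  obtain ⟨x, rfl⟩ := hφ y
  change π (β (φ x)) = _
  rw [hβ, hφ', hφ', h5]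

end Cfsg.Agent.TO.D4B
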