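import Cfsg.Agent.TO.D4B.Odd
import Cfsg.Agent.TO.D4B.Lift
import Cfsg.Agent.OddOrderCharacters.PrimeTI

/-!
# S4817, `PΩ₈⁺(q)`, `q ≡ ±2 (mod 5)`: the centre of the cover is not trivial (helper92)
-/

set_option autoImplicit false
set_option linter.unusedSectionVars false
set_option maxHeartbeats 400000

namespace Cfsg.Agent.TO.D4B

open Cfsg Pair
open Cfsg.Agent.BHZ.Nil (CentPP)

variable {ι : Type} [Fintype ι] [DecidableEq ι] {F : Type} [Field F] [Fintype F] {R : (ι → F) → F}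
  {G : Type} [Group G] [Finite G] {σ : G →* POmega F R} {M : Ideal AlgInt} {b : Set (IrrCharacter G)}
  {D : Subgroup G} {u₁ u₂ : Omega F R}

/-- the situation -/
structure Sit (σ : G →* POmega F R) (M : Ideal AlgInt) (b : Set (IrrCharacter G)) (D : Subgroup G)
    (u₁ u₂ : Omega F R) : Prop where
  H : Hyp 5 M b D σ
  P : Pair u₁ u₂
  eq : D.map σ = QQ u₁ u₂

namespace Sit

theorem cpp (S : Sit σ M b D u₁ u₂) : CentPP 5 σ := ⟨S.H.ker.le, by rw [S.H.ker]; exact S.H.zp⟩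

theorem mem_Ce (S : Sit σ M b D u₁ u₂) {g : G} (h1 : Commute (σ g) (pr u₁)) (h2 : Commute (σ g) (pr u₂)) :
    g ∈ Ce D := by
  have : Fact (Nat.Prime 5) := ⟨by norm_num⟩
  refine S.cpp.mem_centralizer (BHZ.Nil.isPGroup_defect S.H.hD) ?_
  rw [S.eq]
  exact S.P.QQ_comm h1 h2

theorem of_mem_Ce (S : Sit σ M b D u₁ u₂) {g : G} (hg : g ∈ Ce D) {c : Omega F R} (hc : pr c = σ g) :
    Commute c u₁ ∧ Commute c u₂ := by
  have h1 := BHZ.Nil.map_mem_centralizer (π := σ) hg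
  rw [S.eq, ← hc, Subgroup.mem_centralizer_iff] at h1
  exact ⟨S.P.comm_of_mk S.P.p1 (h1 _ u1_mem).symm, S.P.comm_of_mk S.P.symm.p1 (h1 _ u2_mem).symm⟩

theorem ab (S : Sit σ M b D u₁ u₂) : D ≤ Ce D := by
  intro d hd
  obtain ⟨i, j, e⟩ := S.P.mem_QQ (S.eq ▸ Subgroup.mem_map_of_mem σ hd)
  have h1 : Commute (pr u₁) (pr u₂) := congrArg pr S.P.comm
  refine S.mem_Ce ?_ ?_ <;> rw [e, pr_mul, pr_pow, pr_pow]
  · exact ((Commute.refl _).pow_left i).mul_left (h1.symm.pow_left j)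
  · exact (h1.pow_left i).mul_left ((Commute.refl _).pow_left j)

theorem conj_mem (S : Sit σ M b D u₁ u₂) {t : G} (ht : ∀ x ∈ D, t * x * t⁻¹ ∈ D) {s : Omega F R}
    (hs : pr s = σ t) {u : Omega F R} (hu : pr u ∈ QQ u₁ u₂) : pr (s * u * s⁻¹) ∈ QQ u₁ u₂ := by
  rw [← S.eq] at hu ⊢
  obtain ⟨d, hd, e⟩ := hu
  refine ⟨t * d * t⁻¹, ht d hd, ?_⟩
  rw [map_mul, map_mul, map_inv, e, ← hs, pr_mul, pr_mul, pr_inv]

/-- some element of the inertia group inverts `D` -/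
theorem neg (S : Sit σ M b D u₁ u₂) (B : Blk) {θ : G → ℂ} (h : Can 5 M b D θ) :
    ∃ t ∈ In D θ, ∀ d ∈ D, t * d * t⁻¹ = d⁻¹ := by
  have : Fact (Nat.Prime 5) := ⟨by norm_num⟩
  refine B.neg G 5 M b D θ S.H.toTwo h (Or.inl fun t ht => ⟨3, ?_⟩)
  have ht' : ∀ x ∈ D, t * x * t⁻¹ ∈ D := fun x hx => (ht.1 x).2 hx
  obtain ⟨s, hs⟩ : ∃ s, pr s = σ t := QuotientGroup.mk_surjective _
  obtain ⟨h1, h2⟩ := S.P.pow_eight (S.conj_mem ht' hs u1_mem) (S.conj_mem ht' hs u2_mem)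
  have e : σ (t ^ 2 ^ 3) = pr (s ^ 8) := by rw [map_pow, ← hs, pr_pow]; norm_num
  refine S.mem_Ce ?_ ?_ <;> rw [e]
  · exact congrArg pr h1
  · exact congrArg pr h2

/-- **the centre is not trivial** -/
theorem center_ne_bot (S : Sit σ M b D u₁ u₂) (B : Blk) : Subgroup.center G ≠ ⊥ := by
  intro hZ
  have : Fact (Nat.Prime 5) := ⟨by norm_num⟩
  have hinj : Function.Injective σ := (MonoidHom.ker_eq_bot_iff σ).1 (S.H.ker.trans hZ)
  obtain ⟨θ, hθ⟩ := B.can0 G 5 M b D S.H.hM S.H.hb S.H.hD S.ab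
  obtain ⟨t, ht, hti⟩ := S.neg B hθ
  obtain ⟨s, hs⟩ : ∃ s, pr s = σ t := QuotientGroup.mk_surjective _
  have hsi : ∀ u : Omega F R, u ^ 5 = 1 → pr u ∈ QQ u₁ u₂ → s * u * s⁻¹ = u⁻¹ := by
    intro u hu hm
    rw [← S.eq] at hm
    obtain ⟨d, hd, e⟩ := hm
    refine S.P.eq_of_mk (conj_five hu s) (by rw [inv_pow, hu, inv_one]) ?_
    rw [pr_mul, pr_mul, pr_inv, pr_inv, hs, ← e, ← map_inv, ← map_inv, ← map_mul, ← map_mul, hti d hd]
  obtain ⟨m, hm, hm'⟩ := S.P.odd_exp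
  have key : ∀ g ∈ Ce D, t * g * t⁻¹ = g⁻¹ ∧ g ^ m = 1 := by
    intro g hg
    obtain ⟨c, hc⟩ : ∃ c, pr c = σ g := QuotientGroup.mk_surjective _
    obtain ⟨h1, h2⟩ := S.of_mem_Ce hg hc
    constructor
    · apply hinj
      rw [map_mul, map_mul, map_inv, map_inv, ← hs, ← hc, ← pr_inv, ← pr_mul, ← pr_mul,
        S.P.inverts (hsi _ S.P.p1 u1_mem) (hsi _ S.P.symm.p1 u2_mem) h1 h2, pr_inv]
    · apply hinj
      rw [map_pow, ← hc, hm' c h1 h2, map_one]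
  have hab : IsMulCommutative (Ce D) := ⟨⟨fun x y => Subtype.ext (by
    have h1 := (key _ (mul_mem x.2 y.2)).1
    have h2 : t * (x * y) * t⁻¹ = (t * x * t⁻¹) * (t * y * t⁻¹) := by group
    rw [h2, (key _ x.2).1, (key _ y.2).1, ← mul_inv_rev, inv_inj] at h1
    exact h1.symm)⟩⟩
  obtain ⟨ω, hω⟩ := OddOrderCharacters.PrimeTI.exists_hom_of_comm hab hθ.irr
  refine B.np G 5 M b D S.H.toTwo S.H.perf ((B.can1 G 5 M b D θ hθ).prin fun c hc => ?_)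
  have h1 : θ c = ω ⟨c, hc⟩ := congrFun hω ⟨c, hc⟩
  have h2 : θ c⁻¹ = ω ⟨c, hc⟩⁻¹ := congrFun hω ⟨c, hc⟩⁻¹
  have h3 : θ (t * c * t⁻¹) = θ c := ht.2 c
  rw [(key c hc).1, h1, h2, map_inv, Units.val_inj] at h3
  have h4 : ω ⟨c, hc⟩ ^ m = 1 := by
    rw [← map_pow, show (⟨c, hc⟩ : Ce D) ^ m = 1 from Subtype.ext (key c hc).2, map_one]
  obtain ⟨k, rfl⟩ := hm
  have h5 : ω ⟨c, hc⟩ * ω ⟨c, hc⟩ = 1 := eq_inv_iff_mul_eq_one.1 h3.symm
  rw [pow_succ, pow_mul, pow_two, h5, one_pow, one_mul] at h4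
  rw [h1, h4, Units.val_one]

/-- multiplier of exponent two: the centre has order two -/
theorem card_ker (S : Sit σ M b D u₁ u₂) (B : Blk) {A : Type*} [CommGroup A]
    (hA : HasSchurMultiplier (POmega F R) A) (h2 : ∀ a : A, a ^ 2 = 1) : Nat.card σ.ker = 2 := by
  obtain ⟨f, hf⟩ := H95.StemCover.exists_surj_ker hA S.H.perf σ S.H.surj S.H.ker.le
  have hc : IsCyclic σ.ker := S.H.ker ▸ S.H.cyc
  have h1 : Nat.card σ.ker ∣ 2 := by
    rw [← IsCyclic.exponent_eq_card]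
    refine Monoid.exponent_dvd_of_forall_pow_eq_one fun x => ?_
    obtain ⟨a, rfl⟩ := hf x
    rw [← map_pow, h2, map_one]
  rcases (Nat.dvd_prime Nat.prime_two).1 h1 with h3 | h3
  · exact absurd (S.H.ker.symm.trans (Subgroup.card_eq_one.1 h3)) (S.center_ne_bot B)
  · exact h3

end Sit

end Cfsg.Agent.TO.D4B
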