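import Mathlib

/-!
# S4817, `PΩ₈⁺(q)`, `q ≡ ±2 (mod 5)`: linear algebra of two elements of order five (helper92)
-/

set_option autoImplicit false
set_option linter.unusedSectionVars false
set_option maxHeartbeats 400000

namespace Cfsg.Agent.TO.D4B

open Matrix Module

variable {ι : Type} [Fintype ι] [DecidableEq ι] {F : Type} [Field F] [Fintype F]

/-- `q ≡ ±2 (mod 5)` -/
def Q5 (F : Type) [Fintype F] : Prop := Fintype.card F % 5 = 2 ∨ Fintype.card F % 5 = 3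

theorem Q5.five_ne (hq : Q5 F) : (5 : F) ≠ 0 := by
  intro h
  obtain ⟨p, hp, n, hpp, hc⟩ := FiniteField.card' F
  have h1 : p ∣ 5 := (CharP.cast_eq_zero_iff F p 5).1 (by exact_mod_cast h)
  have h2 : p = 5 := (Nat.prime_dvd_prime_iff_eq hpp (by norm_num)).1 h1
  have h3 : 5 ∣ Fintype.card F := by
    rw [hc, h2]
    exact dvd_pow_self 5 n.ne_zero
  rcases hq with h4 | h4 <;> omega

theorem Q5.sq (hq : Q5 F) : Fintype.card F ^ 2 % 5 = 4 := by
  rcases hq with h | h <;> rw [Nat.pow_mod, h]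

theorem Q5.four_dvd_of (hq : Q5 F) {d : ℕ} (h : Fintype.card F ^ d % 5 = 1) : 4 ∣ d := by
  have h4 : Fintype.card F ^ 4 % 5 = 1 := by
    rcases hq with h | h <;> rw [Nat.pow_mod, h]
  have h5 : Fintype.card F ^ d % 5 = Fintype.card F ^ (d % 4) % 5 := by
    conv_lhs => rw [← Nat.div_add_mod d 4, pow_add, pow_mul, Nat.mul_mod, Nat.pow_mod, h4]
    simp
  rw [h5, Nat.pow_mod] at h
  have h6 : d % 4 = 0 ∨ d % 4 = 1 ∨ d % 4 = 2 ∨ d % 4 = 3 := by omega
  rcases h6 with h6 | h6 | h6 | h6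
  · omega
  all_goals
    rw [h6] at h
    rcases hq with h7 | h7 <;> rw [h7] at h <;> simp at h

/-- `5` is not a square -/
theorem Q5.not_isSquare (hq : Q5 F) (h2 : (2 : F) ≠ 0) : ¬ IsSquare (5 : F) := by
  classical
  have k1 : ∀ r : ZMod 5, ((1 : ℤ) : ZMod 5) * ((2 : ℕ) : ZMod 5) ≠ r * r := by decide
  have k2 : ∀ r : ZMod 5, ((1 : ℤ) : ZMod 5) * ((3 : ℕ) : ZMod 5) ≠ r * r := by decide
  have k3 : ∀ r : ZMod 5, ((-1 : ℤ) : ZMod 5) * ((2 : ℕ) : ZMod 5) ≠ r * r := by decide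
  have k4 : ∀ r : ZMod 5, ((-1 : ℤ) : ZMod 5) * ((3 : ℕ) : ZMod 5) ≠ r * r := by decide
  have hr : ringChar F ≠ 2 := fun h => h2 (by
    have := ringChar.spec F 2
    rw [h] at this
    exact_mod_cast this.2 dvd_rfl)
  have : Fact (Nat.Prime 5) := ⟨by norm_num⟩
  have h := FiniteField.isSquare_odd_prime_iff hr (p := 5) (by norm_num)
  rw [Nat.cast_ofNat] at h
  rw [h, not_not]
  have h4 : ((Fintype.card F : ℕ) : ZMod 5) = ((Fintype.card F % 5 : ℕ) : ZMod 5) := (ZMod.natCast_mod _ 5).symm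
  have h3 : ZMod.χ₄ (Fintype.card F : ZMod 4) = 1 ∨ ZMod.χ₄ (Fintype.card F : ZMod 4) = -1 := by
    have h6 := FiniteField.odd_card_of_char_ne_two hr
    rw [ZMod.χ₄_nat_eq_if_mod_four, if_neg (by omega)]
    split_ifs
    · exact Or.inl rfl
    · exact Or.inr rfl
  rw [quadraticChar_neg_one_iff_not_isSquare, h4]
  rintro ⟨r, hr⟩
  rcases h3 with h3 | h3 <;> rcases hq with h5 | h5 <;> rw [h3, h5] at hr
  exacts [k1 r hr, k2 r hr, k3 r hr, k4 r hr]

/-- a subspace without fixed vectors of an element of order five has dimension divisible by four -/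
theorem four_dvd (hq : Q5 F) {u : Matrix ι ι F} (hu : u ^ 5 = 1) (W : Submodule F (ι → F))
    (hW : ∀ w ∈ W, u *ᵥ w ∈ W) (hf : ∀ w ∈ W, u *ᵥ w = w → w = 0) : 4 ∣ finrank F W := by
  classical
  have : Fact (Nat.Prime 5) := ⟨by norm_num⟩
  let f : Function.End W := fun w => ⟨u *ᵥ w, hW _ w.2⟩
  have h1 : ∀ (n : ℕ) (w : W), (((f ^ n) w : W) : ι → F) = u ^ n *ᵥ w := by
    intro n
    induction n with
    | zero => intro w; simp [Function.End.one_def]
    | succ n ih =>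
      intro w
      rw [pow_succ, pow_succ, ← mulVec_mulVec]
      exact ih (f w)
  have h2 : f ^ 5 ^ 1 = 1 := by
    funext w
    apply Subtype.ext
    rw [h1, pow_one, hu, one_mulVec]
    rfl
  have : Fintype W := Fintype.ofFinite W
  have h3 := Equiv.Perm.card_fixedPoints_modEq h2
  have h4 : Fintype.card f.fixedPoints = 1 := by
    rw [Fintype.card_eq_one_iff]
    refine ⟨⟨0, Subtype.ext (mulVec_zero u)⟩, fun y => Subtype.ext (Subtype.ext (hf _ y.1.2 ?_))⟩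
    exact congrArg Subtype.val y.2
  rw [h4, Module.card_eq_pow_finrank (K := F)] at h3
  exact hq.four_dvd_of h3

/-- the sum of the powers -/
def nm (u : Matrix ι ι F) : Matrix ι ι F := 1 + u + u ^ 2 + u ^ 3 + u ^ 4

theorem mul_nm {u : Matrix ι ι F} (hu : u ^ 5 = 1) : u * nm u = nm u := by
  have : u * nm u = u + u ^ 2 + u ^ 3 + u ^ 4 + u ^ 5 := by unfold nm; noncomm_ring
  rw [this, hu]; unfold nm; abel

theorem nm_mul {u : Matrix ι ι F} (hu : u ^ 5 = 1) : nm u * u = nm u := by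
  have : nm u * u = u + u ^ 2 + u ^ 3 + u ^ 4 + u ^ 5 := by unfold nm; noncomm_ring
  rw [this, hu]; unfold nm; abel

theorem pow_mulVec_fix {u : Matrix ι ι F} {w : ι → F} (h : u *ᵥ w = w) (n : ℕ) : u ^ n *ᵥ w = w := by
  induction n with
  | zero => simp
  | succ n ih => rw [pow_succ, ← mulVec_mulVec, h, ih]

theorem nm_fix {u : Matrix ι ι F} {w : ι → F} (h : u *ᵥ w = w) : nm u *ᵥ w = (5 : F) • w := by
  unfold nm
  simp only [add_mulVec, one_mulVec, h, pow_mulVec_fix h]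
  rw [show (5 : F) = 1 + 1 + 1 + 1 + 1 by norm_num]
  simp only [add_smul, one_smul]

theorem pow_mem {u : Matrix ι ι F} {W : Submodule F (ι → F)} (hW : ∀ w ∈ W, u *ᵥ w ∈ W) {w : ι → F} (hw : w ∈ W)
    (n : ℕ) : u ^ n *ᵥ w ∈ W := by
  induction n with
  | zero => simpa using hw
  | succ n ih => rw [pow_succ', ← mulVec_mulVec]; exact hW _ ih

theorem nm_zero {u : Matrix ι ι F} (hu : u ^ 5 = 1) {W : Submodule F (ι → F)}
    (hW : ∀ w ∈ W, u *ᵥ w ∈ W) (hf : ∀ w ∈ W, u *ᵥ w = w → w = 0) {w : ι → F} (hw : w ∈ W) : nm u *ᵥ w = 0 := by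
  refine hf _ ?_ (by rw [mulVec_mulVec, mul_nm hu])
  unfold nm
  simp only [add_mulVec, one_mulVec]
  exact add_mem (add_mem (add_mem (add_mem hw (hW _ hw)) (pow_mem hW hw 2)) (pow_mem hW hw 3)) (pow_mem hW hw 4)

/-- the cyclic family -/
def cy (u : Matrix ι ι F) (w : ι → F) : Fin 4 → ι → F := fun i => u ^ (i : ℕ) *ᵥ w

/-- a four-dimensional space without fixed vectors is cyclic -/
theorem span_cy (hq : Q5 F) {u : Matrix ι ι F} (hu : u ^ 5 = 1) {W : Submodule F (ι → F)}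
    (hW : ∀ w ∈ W, u *ᵥ w ∈ W) (hf : ∀ w ∈ W, u *ᵥ w = w → w = 0) (h4 : finrank F W = 4) {w : ι → F}
    (hw : w ∈ W) (h0 : w ≠ 0) : Submodule.span F (Set.range (cy u w)) = W := by
  set S := Submodule.span F (Set.range (cy u w)) with hS
  have hle : S ≤ W := Submodule.span_le.2 (by
    rintro _ ⟨i, rfl⟩
    exact pow_mem hW hw i)
  have hm : ∀ i : Fin 4, u ^ (i : ℕ) *ᵥ w ∈ S := fun i => Submodule.subset_span ⟨i, rfl⟩
  have h5 : u ^ 4 *ᵥ w ∈ S := by
    have h6 := nm_zero hu hW hf hw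
    unfold nm at h6
    simp only [add_mulVec] at h6
    have h7 : u ^ 4 *ᵥ w = -(u ^ 0 *ᵥ w + u ^ 1 *ᵥ w + u ^ 2 *ᵥ w + u ^ 3 *ᵥ w) := by
      rw [pow_zero, pow_one]
      exact eq_neg_of_add_eq_zero_right h6
    rw [h7]
    exact neg_mem (add_mem (add_mem (add_mem (hm 0) (hm 1)) (hm 2)) (hm 3))
  have hinv : ∀ x ∈ S, u *ᵥ x ∈ S := by
    intro x hx
    induction hx using Submodule.span_induction with
    | mem x hx =>
      obtain ⟨i, rfl⟩ := hx
      unfold cy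
      rw [mulVec_mulVec, ← pow_succ']
      fin_cases i
      · exact hm 1
      · exact hm 2
      · exact hm 3
      · exact h5
    | zero => simp
    | add x y _ _ hx hy => rw [mulVec_add]; exact add_mem hx hy
    | smul c x _ hx => rw [mulVec_smul]; exact Submodule.smul_mem _ _ hx
  have h6 := four_dvd hq hu S hinv fun x hx => hf x (hle hx)
  have h7 : finrank F S ≠ 0 := by
    intro h
    have h8 : S = ⊥ := Submodule.finrank_eq_zero.1 h
    have h9 := hm 0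
    rw [h8, Submodule.mem_bot] at h9
    exact h0 (by simpa using h9)
  exact Submodule.eq_of_le_of_finrank_le hle (by rw [h4]; exact Nat.le_of_dvd (Nat.pos_of_ne_zero h7) h6)

/-- a matrix which commutes with `u` and stabilises `W` acts on `W` as a polynomial in `u` -/
theorem exists_poly (hq : Q5 F) {u : Matrix ι ι F} (hu : u ^ 5 = 1) {W : Submodule F (ι → F)}
    (hW : ∀ w ∈ W, u *ᵥ w ∈ W) (hf : ∀ w ∈ W, u *ᵥ w = w → w = 0) (h4 : finrank F W = 4) {c : Matrix ι ι F}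
    (hc : Commute c u) (hcW : ∀ w ∈ W, c *ᵥ w ∈ W) :
    ∃ P ∈ Algebra.adjoin F ({u} : Set (Matrix ι ι F)), ∀ w ∈ W, c *ᵥ w = P *ᵥ w := by
  obtain ⟨w, hw, h0⟩ : ∃ w ∈ W, w ≠ 0 := by
    apply Submodule.exists_mem_ne_zero_of_ne_bot
    intro h
    rw [h, finrank_bot] at h4
    omega
  have hs := span_cy hq hu hW hf h4 hw h0
  have h1 := hcW w hw
  rw [← hs, Submodule.mem_span_range_iff_exists_fun] at h1
  obtain ⟨x, hx⟩ := h1
  obtain ⟨P, hP0⟩ : ∃ P : Matrix ι ι F, P = ∑ i : Fin 4, x i • u ^ (i : ℕ) := ⟨_, rfl⟩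
  have hP : ∀ n : ℕ, Commute P (u ^ n) := by
    intro n
    rw [hP0]
    refine Commute.sum_left _ _ _ fun i _ => ?_
    exact Commute.smul_left ((Commute.refl u).pow_pow i n) _
  have hPw : P *ᵥ w = c *ᵥ w := by
    rw [← hx, hP0, sum_mulVec]
    refine Finset.sum_congr rfl fun i _ => ?_
    rw [smul_mulVec]
    rfl
  have hu0 : u ∈ Algebra.adjoin F ({u} : Set (Matrix ι ι F)) := Algebra.subset_adjoin (Set.mem_singleton u)
  have hPm : P ∈ Algebra.adjoin F ({u} : Set (Matrix ι ι F)) := by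
    rw [hP0]
    refine Subalgebra.sum_mem _ fun i _ => ?_
    exact Subalgebra.smul_mem _ (Subalgebra.pow_mem _ hu0 _) _
  refine ⟨P, hPm, fun y hy => ?_⟩
  rw [← hs] at hy
  induction hy using Submodule.span_induction with
  | mem y hy =>
    obtain ⟨j, rfl⟩ := hy
    unfold cy
    rw [mulVec_mulVec, mulVec_mulVec, (hc.pow_right j).eq, (hP j).eq, ← mulVec_mulVec, ← mulVec_mulVec, hPw]
  | zero => simp
  | add y z _ _ hy hz => rw [mulVec_add, mulVec_add, hy, hz]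
  | smul a y _ hy => rw [mulVec_smul, mulVec_smul, hy]

/-- the fixed space -/
def fx (u : Matrix ι ι F) : Submodule F (ι → F) := LinearMap.ker (Matrix.toLin' (u - 1))

theorem mem_fx {u : Matrix ι ι F} {v : ι → F} : v ∈ fx u ↔ u *ᵥ v = v := by
  unfold fx
  rw [LinearMap.mem_ker, Matrix.toLin'_apply, sub_mulVec, one_mulVec, sub_eq_zero]

theorem finrank_fx (u : Matrix ι ι F) : (u - 1).rank + finrank F (fx u) = Fintype.card ι := by
  have h := LinearMap.finrank_range_add_finrank_ker (Matrix.toLin' (u - 1))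
  rw [Module.finrank_fintype_fun_eq_card] at h
  rw [← h, Matrix.rank, Matrix.toLin'_apply']
  rfl

theorem mem_fx_of_comm {u c : Matrix ι ι F} (h : Commute c u) {v : ι → F} (hv : v ∈ fx u) : c *ᵥ v ∈ fx u := by
  rw [mem_fx] at hv ⊢
  rw [mulVec_mulVec, ← h.eq, ← mulVec_mulVec, hv]

/-- two commuting matrices of order five with complementary supports of dimension four -/
structure MP (a b : Matrix ι ι F) : Prop where
  q5 : Q5 F
  c8 : Fintype.card ι = 8
  p1 : a ^ 5 = 1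
  p2 : b ^ 5 = 1
  z12 : (a - 1) * (b - 1) = 0
  z21 : (b - 1) * (a - 1) = 0
  r1 : (a - 1).rank = 4
  r2 : (b - 1).rank = 4

namespace MP

variable {a b : Matrix ι ι F}

theorem symm (h : MP a b) : MP b a := ⟨h.q5, h.c8, h.p2, h.p1, h.z21, h.z12, h.r2, h.r1⟩

theorem comm (h : MP a b) : Commute a b := by
  have h1 : a * b - b * a = (a - 1) * (b - 1) - (b - 1) * (a - 1) := by noncomm_ring
  rw [h.z12, h.z21, sub_zero, sub_eq_zero] at h1
  exact h1

theorem fin1 (h : MP a b) : finrank F (fx a) = 4 := by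
  have := finrank_fx a
  rw [h.r1, h.c8] at this
  omega

theorem sub_mem (h : MP a b) (v : ι → F) : (a - 1) *ᵥ v ∈ fx b := by
  unfold fx
  rw [LinearMap.mem_ker, Matrix.toLin'_apply, mulVec_mulVec, h.z21, zero_mulVec]

theorem range_eq (h : MP a b) : LinearMap.range (Matrix.toLin' (a - 1)) = fx b := by
  apply Submodule.eq_of_le_of_finrank_le
  · rintro _ ⟨v, rfl⟩
    rw [Matrix.toLin'_apply]
    exact h.sub_mem v
  · rw [h.symm.fin1, ← h.r1, Matrix.rank, Matrix.toLin'_apply']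

theorem nm_eq_zero (h : MP a b) {v : ι → F} (hv : v ∈ fx b) : nm a *ᵥ v = 0 := by
  rw [← h.range_eq] at hv
  obtain ⟨y, rfl⟩ := hv
  rw [Matrix.toLin'_apply, mulVec_mulVec, mul_sub, nm_mul h.p1, mul_one, sub_self, zero_mulVec]

theorem disj (h : MP a b) {v : ι → F} (hv : v ∈ fx b) (hv' : a *ᵥ v = v) : v = 0 := by
  have h1 := h.nm_eq_zero hv
  rw [nm_fix hv'] at h1
  exact (smul_eq_zero.1 h1).resolve_left h.q5.five_ne

theorem dec (h : MP a b) (v : ι → F) : ∃ w₁ ∈ fx b, ∃ w₂ ∈ fx a, v = w₁ + w₂ := by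
  have h1 : fx b ⊓ fx a = ⊥ := by
    rw [eq_bot_iff]
    rintro x ⟨hx, hx'⟩
    exact h.disj hx (mem_fx.1 hx')
  have h2 := Submodule.finrank_sup_add_finrank_inf_eq (fx b) (fx a)
  rw [h1, finrank_bot, h.fin1, h.symm.fin1] at h2
  have h3 : fx b ⊔ fx a = ⊤ := Submodule.eq_top_of_finrank_eq (by
    rw [Module.finrank_fintype_fun_eq_card, h.c8]; omega)
  have h4 : v ∈ fx b ⊔ fx a := h3 ▸ Submodule.mem_top
  obtain ⟨x, hx, y, hy, hxy⟩ := Submodule.mem_sup.1 h4
  exact ⟨x, hx, y, hy, hxy.symm⟩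

theorem inv (h : MP a b) : ∀ w ∈ fx b, a *ᵥ w ∈ fx b := fun _ hw => mem_fx_of_comm h.comm hw

theorem ext (h : MP a b) {x y : Matrix ι ι F} (h1 : ∀ w ∈ fx b, x *ᵥ w = y *ᵥ w)
    (h2 : ∀ w ∈ fx a, x *ᵥ w = y *ᵥ w) : x = y := by
  apply Matrix.mulVec_injective
  funext v
  obtain ⟨w₁, m1, w₂, m2, rfl⟩ := h.dec v
  rw [mulVec_add, mulVec_add, h1 _ m1, h2 _ m2]

/-- the algebra generated by the two matrices -/
abbrev Al (a b : Matrix ι ι F) : Subalgebra F (Matrix ι ι F) := Algebra.adjoin F {a, b}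

theorem a_mem : a ∈ Al a b := Algebra.subset_adjoin (Or.inl rfl)
theorem b_mem : b ∈ Al a b := Algebra.subset_adjoin (Or.inr rfl)

theorem nm_mem {S : Subalgebra F (Matrix ι ι F)} {u : Matrix ι ι F} (hu : u ∈ S) : nm u ∈ S :=
  add_mem (add_mem (add_mem (add_mem (one_mem _) hu) (Subalgebra.pow_mem _ hu 2)) (Subalgebra.pow_mem _ hu 3))
    (Subalgebra.pow_mem _ hu 4)

/-- **the commutant is the algebra** -/
theorem mem_adjoin (h : MP a b) {c : Matrix ι ι F} (h1 : Commute c a) (h2 : Commute c b) : c ∈ Al a b := by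
  obtain ⟨P, hP, hP'⟩ := exists_poly h.q5 h.p1 h.inv (fun w hw => h.disj hw) h.symm.fin1 h1
    fun w hw => mem_fx_of_comm h2 hw
  obtain ⟨R, hR, hR'⟩ := exists_poly h.q5 h.p2 h.symm.inv (fun w hw => h.symm.disj hw) h.fin1 h2
    fun w hw => mem_fx_of_comm h1 hw
  have h5 := h.q5.five_ne
  have h3 : c = (5 : F)⁻¹ • (P * nm b + R * nm a) := by
    apply h.ext
    · intro w hw
      rw [smul_mulVec, add_mulVec, ← mulVec_mulVec, ← mulVec_mulVec, h.nm_eq_zero hw, nm_fix (mem_fx.1 hw),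
        mulVec_zero, add_zero, mulVec_smul, smul_smul, inv_mul_cancel₀ h5, one_smul, hP' w hw]
    · intro w hw
      rw [smul_mulVec, add_mulVec, ← mulVec_mulVec, ← mulVec_mulVec, h.symm.nm_eq_zero hw, nm_fix (mem_fx.1 hw),
        mulVec_zero, zero_add, mulVec_smul, smul_smul, inv_mul_cancel₀ h5, one_smul, hR' w hw]
  rw [h3]
  exact Subalgebra.smul_mem _ (add_mem
    (mul_mem (Algebra.adjoin_mono (by simp) hP) (nm_mem b_mem))
    (mul_mem (Algebra.adjoin_mono (by simp) hR) (nm_mem a_mem))) _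

theorem comm_gen (h : MP a b) {x : Matrix ι ι F} (hx : x ∈ Al a b) : Commute a x ∧ Commute b x := by
  constructor
  · refine Algebra.commute_of_mem_adjoin_of_forall_mem_commute hx ?_
    rintro y (rfl | rfl)
    · exact Commute.refl _
    · exact h.comm
  · refine Algebra.commute_of_mem_adjoin_of_forall_mem_commute hx ?_
    rintro y (rfl | rfl)
    · exact h.comm.symm
    · exact Commute.refl _

theorem comm_adj (h : MP a b) {x y : Matrix ι ι F} (hx : x ∈ Al a b) (hy : y ∈ Al a b) : Commute x y := by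
  refine Algebra.commute_of_mem_adjoin_of_forall_mem_commute hy ?_
  rintro z (rfl | rfl)
  · exact (h.comm_gen hx).1.symm
  · exact (h.comm_gen hx).2.symm

/-- induction for the Frobenius map `x ↦ x ^ (q ^ 2)` -/
theorem frob_ind (h : MP a b) (P : Matrix ι ι F → Matrix ι ι F → Prop) (ha : P a (a ^ 4)) (hb : P b (b ^ 4))
    (hs : ∀ s : F, P (s • 1) (s • 1)) (hadd : ∀ x x' y y', P x x' → P y y' → P (x + y) (x' + y'))
    (hmul : ∀ x x' y y', Commute x' y' → P x x' → P y y' → P (x * y) (x' * y')) {x : Matrix ι ι F}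
    (hx : x ∈ Al a b) : P x (x ^ Fintype.card F ^ 2) := by
  obtain ⟨p, hp, n, hpp, hc⟩ := FiniteField.card' F
  have : Fact p.Prime := ⟨hpp⟩
  have : Nonempty ι := Fintype.card_pos_iff.1 (by rw [h.c8]; norm_num)
  induction hx using Algebra.adjoin_induction with
  | mem x hx =>
    rcases hx with rfl | rfl
    · rw [pow_eq_pow_mod _ h.p1, h.q5.sq]; exact ha
    · rw [pow_eq_pow_mod _ h.p2, h.q5.sq]; exact hb
  | algebraMap s =>
    rw [← map_pow, FiniteField.pow_card_pow, Algebra.algebraMap_eq_smul_one]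
    exact hs s
  | add x y hx hy ihx ihy =>
    have h1 : (x + y) ^ Fintype.card F ^ 2 = x ^ Fintype.card F ^ 2 + y ^ Fintype.card F ^ 2 := by
      rw [hc, ← pow_mul]
      exact add_pow_char_pow_of_commute p _ (h.comm_adj hx hy)
    rw [h1]
    exact hadd _ _ _ _ ihx ihy
  | mul x y hx hy ihx ihy =>
    rw [(h.comm_adj hx hy).mul_pow]
    exact hmul _ _ _ _ ((h.comm_adj hx hy).pow_pow _ _) ihx ihy

/-- a matrix which inverts `a` and `b` acts on the algebra as the Frobenius map -/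
theorem conj_frob (h : MP a b) {t : Matrix ι ι F} (ha : t * a = a ^ 4 * t) (hb : t * b = b ^ 4 * t)
    {x : Matrix ι ι F} (hx : x ∈ Al a b) : t * x = x ^ Fintype.card F ^ 2 * t := by
  refine h.frob_ind (fun x x' => t * x = x' * t) ha hb (fun s => by simp) ?_ ?_ hx
  · intro x x' y y' h1 h2
    rw [mul_add, add_mul, h1, h2]
  · intro x x' y y' _ h1 h2
    rw [← mul_assoc, h1, mul_assoc, h2, mul_assoc]

/-- the adjoint with respect to an invariant form is the Frobenius map -/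
theorem adj_frob (h : MP a b) (B : LinearMap.BilinForm F (ι → F)) (ha : ∀ v w, B (a *ᵥ v) (a *ᵥ w) = B v w)
    (hb : ∀ v w, B (b *ᵥ v) (b *ᵥ w) = B v w) {x : Matrix ι ι F} (hx : x ∈ Al a b) (v w : ι → F) :
    B (x *ᵥ v) w = B v ((x ^ Fintype.card F ^ 2) *ᵥ w) := by
  refine h.frob_ind (fun x x' => ∀ v w, B (x *ᵥ v) w = B v (x' *ᵥ w)) ?_ ?_ ?_ ?_ ?_ hx v w
  · intro v w
    rw [← ha v, mulVec_mulVec, ← pow_succ', h.p1, one_mulVec]
  · intro v w
    rw [← hb v, mulVec_mulVec, ← pow_succ', h.p2, one_mulVec]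
  · intro s v w
    simp [smul_mulVec]
  · intro x x' y y' h1 h2 v w
    rw [add_mulVec, add_mulVec, map_add, map_add, LinearMap.add_apply, h1, h2]
  · intro x x' y y' hc h1 h2 v w
    rw [← mulVec_mulVec, h1, h2, mulVec_mulVec, hc.eq]

/-- an element of support two has no fixed vector -/
theorem fpf (h : MP a b) {i j : ℕ} (hi : ¬ 5 ∣ i) (hj : ¬ 5 ∣ j) {v : ι → F} (hv : (a ^ i * b ^ j) *ᵥ v = v) :
    v = 0 := by
  have key : ∀ {u : Matrix ι ι F} {k : ℕ} {w : ι → F}, u ^ 5 = 1 → ¬ 5 ∣ k → u ^ k *ᵥ w = w → u *ᵥ w = w := by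
    intro u k w hu hk hw
    have h1 := pow_mulVec_fix hw (k ^ 3)
    rw [← pow_mul, pow_eq_pow_mod _ hu] at h1
    have h2 : k * k ^ 3 % 5 = 1 := by
      have h3 : k % 5 = 1 ∨ k % 5 = 2 ∨ k % 5 = 3 ∨ k % 5 = 4 := by omega
      rw [← pow_succ', Nat.pow_mod]
      rcases h3 with h3 | h3 | h3 | h3 <;> rw [h3]
    rwa [h2, pow_one] at h1
  obtain ⟨w₁, m1, w₂, m2, rfl⟩ := h.dec v
  rw [mulVec_add, ← mulVec_mulVec, pow_mulVec_fix (mem_fx.1 m1), (h.comm.pow_pow i j).eq, ← mulVec_mulVec,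
    pow_mulVec_fix (mem_fx.1 m2)] at hv
  have h1 : a ^ i *ᵥ w₁ - w₁ = -(b ^ j *ᵥ w₂ - w₂) := by
    rw [neg_sub, sub_eq_sub_iff_add_eq_add, hv, add_comm]
  have h2 : a ^ i *ᵥ w₁ - w₁ ∈ fx b := _root_.sub_mem (pow_mem h.inv m1 i) m1
  have h3 : b ^ j *ᵥ w₂ - w₂ ∈ fx a := _root_.sub_mem (pow_mem h.symm.inv m2 j) m2
  have h4 : a ^ i *ᵥ w₁ - w₁ = 0 := h.disj h2 (mem_fx.1 (h1 ▸ neg_mem h3))
  have h5 : b ^ j *ᵥ w₂ - w₂ = 0 := by
    rw [h4] at h1
    exact neg_eq_zero.1 h1.symm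
  rw [h.disj m1 (key h.p1 hi (sub_eq_zero.1 h4)), h.symm.disj m2 (key h.p2 hj (sub_eq_zero.1 h5)), add_zero]

/-- the two supports are orthogonal -/
theorem orth (h : MP a b) (B : LinearMap.BilinForm F (ι → F)) (ha : ∀ v w, B (a *ᵥ v) (a *ᵥ w) = B v w)
    {v w : ι → F} (hv : v ∈ fx b) (hw : w ∈ fx a) : B v w = 0 := by
  rw [← h.range_eq] at hv
  obtain ⟨y, rfl⟩ := hv
  rw [Matrix.toLin'_apply, sub_mulVec, one_mulVec, map_sub, LinearMap.sub_apply, ← ha y w, mem_fx.1 hw, sub_self]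

end MP

end Cfsg.Agent.TO.D4B
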