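import Cfsg.Agent.TO.D4B.Com
import Cfsg.Agent.S2097
import Cfsg.Agent.S2098
import Cfsg.Agent.KFacts.Mult.OEightInner

/-!
# S4817: the boxes D4B and D4C (helper92)
-/

set_option autoImplicit false
set_option linter.unusedSectionVars false
set_option maxHeartbeats 400000

namespace Cfsg.Agent.TO.D4B

open Cfsg Pair

variable {F : Type} [Field F] [Fintype F] {G : Type} [Group G] [Finite G] {σ : G →* POmega F (quadFormPlus 4 F)}
  {M : Ideal AlgInt} {b : Set (IrrCharacter G)} {D : Subgroup G}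

theorem of_surv (H : Hyp 5 M b D σ) (h : SurvD F (Ind σ b) (D.map σ)) :
    ∃ (u₁ u₂ : Omega F (quadFormPlus 4 F)) (α : MulAut (POmega F (quadFormPlus 4 F))) (a : MulAut G),
      Sit σ M b D u₁ u₂ ∧ (∀ g, σ (a g) = α (σ g)) ∧ α (α (pr u₁)) ∈ QQ u₁ u₂ ∧ α (α (pr u₂)) ∈ QQ u₁ u₂ ∧
        ∀ x, pr x = α (α (pr u₁)) → ((∃ i : ℕ, x = u₁ ^ i) ∨ ∃ i : ℕ, x = u₂ ^ i) → False := by
  obtain ⟨hq, u₁, u₂, p1, p2, z12, z21, r1, r2, hQ, α, ⟨a, -, ha⟩, hα, hj⟩ := h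
  have hα' : ∀ x ∈ QQ u₁ u₂, α x ∈ QQ u₁ u₂ := fun x hx => by
    have h1 := (hα x).2 (hQ ▸ hx)
    rwa [hQ] at h1
  refine ⟨u₁, u₂, α, a, ⟨H, ⟨fm_plus, hq, by simp, ?_, ?_, z12, z21, r1, r2⟩, hQ⟩, ha,
    hα' _ (hα' _ u1_mem), hα' _ (hα' _ u2_mem), fun x hx hi => ?_⟩
  · rw [← mat_pow, p1, mat_one]
  · rw [← mat_pow, p2, mat_one]
  · obtain ⟨h1, h2⟩ := hj 2 (by norm_num)
    have e : (α ^ (2 : ℤ)) (pr u₁) = pr x := by rw [hx, zpow_two]; rfl
    rcases hi with ⟨i, rfl⟩ | ⟨i, rfl⟩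
    · exact h1 (by
        change (α ^ (2 : ℤ)) (pr u₁) ∈ _
        rw [e, pr_pow]
        exact Subgroup.npow_mem_zpowers _ i)
    · exact h2 (by
        change (α ^ (2 : ℤ)) (pr u₁) ∈ _
        rw [e, pr_pow]
        exact Subgroup.npow_mem_zpowers _ i)

theorem four_sq : ∀ a : Multiplicative (ZMod 2 × ZMod 2), a ^ 2 = 1 := by decide

theorem four_card : Nat.card (Multiplicative (ZMod 2 × ZMod 2)) = 4 := by simp

/-- **[D4B]** -/
theorem boxD4B (B : Blk) : BoxD4B := by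
  intro F _ _ hodd G _ _ σ M b D H h
  obtain ⟨u₁, u₂, α, a, S, ha, m1, -, hn⟩ := of_surv H h
  have h2 : (2 : F) ≠ 0 := by
    intro h2
    have h3 : Fintype.card F % 2 = 0 := FiniteField.even_card_iff_char_two.1 (by
      have : CharP F 2 := (CharP.charP_iff_prime_eq_zero Nat.prime_two).2 (by exact_mod_cast h2)
      exact ringChar.eq F 2)
    have := Nat.odd_iff.1 hodd
    omega
  have hA := S2097.result (F := F) rfl 4 le_rfl (by decide) (fun h3 => by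
    rw [h3.2] at hodd
    exact absurd hodd (by decide))
  have hg : Nat.gcd 2 (Fintype.card F ^ 4 - 1) = 2 :=
    Nat.gcd_eq_left (Nat.Odd.sub_odd (hodd.pow (n := 4)) odd_one).two_dvd
  rw [hg] at hA
  obtain ⟨β, hβ⟩ := lift_sq hA four_card H.perf H.surj H.ker.le (S.card_ker B hA four_sq) ha
    (π := QuotientGroup.mk' (Subgroup.center (Omega F (quadFormPlus 4 F)))) S.P.fm.perf
    (QuotientGroup.mk'_surjective _) (QuotientGroup.ker_mk' _).le
  have e : pr (β u₁) = α (α (pr u₁)) := hβ u₁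
  exact hn _ e (S.P.aut_one_sided h2 β (e ▸ m1))

/-- **[D4C]** -/
theorem boxD4C (B : Blk) : BoxD4C := by
  intro F _ _ hev G _ _ σ M b D H h
  obtain ⟨u₁, u₂, α, a, S, ha, m1, m2, hn⟩ := of_surv H h
  by_cases hq : Fintype.card F = 2
  · have hA := S2098.result hq
    obtain ⟨U, _, _, ρ, γ, hU, hρ, hk, h5, h6⟩ :=
      exists_fix hA four_card H.perf H.surj H.ker.le (S.card_ker B hA four_sq) ha
    obtain ⟨k, hk'⟩ := KFacts.Mult.OEightInner.inner hq hU hρ.1 hρ.2.1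
      (IsPGroup.of_card (n := 2) hk) hk γ h6
    obtain ⟨s, hs⟩ : ∃ s, pr s = ρ k := QuotientGroup.mk_surjective _
    have e : ∀ u, pr (s * u * s⁻¹) = α (α (pr u)) := by
      intro u
      obtain ⟨x, hx⟩ := hρ.1 (pr u)
      rw [← hx, ← h5, hk', map_mul, map_mul, map_inv, ← hs, hx, pr_mul, pr_mul, pr_inv]
    refine hn _ (e u₁) ?_
    rcases S.P.norm ((e u₁).symm ▸ m1) ((e u₂).symm ▸ m2) with ⟨i, -, hi, -⟩ | ⟨i, -, hi, -⟩
    · exact Or.inl ⟨i, hi⟩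
    · exact Or.inr ⟨i, hi⟩
  · have hA := S2097.result (F := F) rfl 4 le_rfl (by decide) (fun h3 => hq h3.2)
    have hg : Nat.gcd 2 (Fintype.card F ^ 4 - 1) = 1 := by
      have h1 : 0 < Fintype.card F ^ 4 := pow_pos Fintype.card_pos 4
      have h2 : Even (Fintype.card F ^ 4) := Nat.even_pow.2 ⟨hev, by norm_num⟩
      exact Nat.coprime_two_left.2 (Nat.Even.sub_odd h1 h2 odd_one)
    rw [hg] at hA
    have h1 := H95.StemCover.card_ker_dvd hA H.perf σ H.surj H.ker.le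
    have h2 : Nat.card (Multiplicative (ZMod 1 × ZMod 1)) = 1 := by simp
    rw [h2, Nat.dvd_one] at h1
    exact S.center_ne_bot B (H.ker.symm.trans (Subgroup.card_eq_one.1 h1))

end Cfsg.Agent.TO.D4B
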