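import Cfsg.Agent.TO.D4B.Om

/-!
# S4817, `PΩ₈⁺(q)`, `q ≡ ±2 (mod 5)`: involutions in the centralizers of elements of order five (helper92)
-/

set_option autoImplicit false
set_option linter.unusedSectionVars false
set_option maxHeartbeats 400000

namespace Cfsg.Agent.TO.D4B

open Cfsg Matrix Module QuadraticMap
open Cfsg.Agent.ClassicalGeometry.Reflection Cfsg.Agent.H932

variable {ι : Type} [Fintype ι] [DecidableEq ι] {F : Type} [Field F] [Fintype F] {R : (ι → F) → F}

theorem det_toep (x y : F) :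
    (!![-2 * x - 2 * y, x, y, y; x, -2 * x - 2 * y, x, y; y, x, -2 * x - 2 * y, x; y, y, x, -2 * x - 2 * y] :
      Matrix (Fin 4) (Fin 4) F).det = 5 * (x ^ 2 + 3 * x * y + y ^ 2) ^ 2 := by
  simp [Matrix.det_succ_row_zero, Fin.sum_univ_succ, Fin.succAbove]
  ring

/-- the Gram matrix of a cyclic family -/
theorem gram_cy {Q : QuadraticForm F (ι → F)} {u : Omega F ⇑Q} (hu : u ^ 5 = 1) {w : ι → F}
    (hw : nm (mat u) *ᵥ w = 0) : ∃ x y : F, Spinor.gram (⇑Q) (cy (mat u) w) =
      !![-2 * x - 2 * y, x, y, y; x, -2 * x - 2 * y, x, y; y, x, -2 * x - 2 * y, x; y, y, x, -2 * x - 2 * y] := by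
  obtain ⟨β, hβ⟩ : ∃ β : ℕ → ℕ → F, ∀ i j, β i j = polarBilin Q (mat u ^ i *ᵥ w) (mat u ^ j *ᵥ w) :=
    ⟨_, fun _ _ => rfl⟩
  have hs : ∀ i j, β (i + 1) (j + 1) = β i j := by
    intro i j
    rw [hβ, hβ, pow_succ', pow_succ', ← mulVec_mulVec, ← mulVec_mulVec, iso]
  have hc : ∀ i j, β i j = β j i := by
    intro i j
    rw [hβ, hβ]
    exact polar_comm _ _ _
  have h5 : ∀ i, β i 5 = β i 0 := by
    intro i
    rw [hβ, hβ, ← mat_pow u 5, hu, mat_one, pow_zero]
  have h0 : β 0 0 + β 0 1 + β 0 2 + β 0 3 + β 0 4 = 0 := by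
    have h1 : polarBilin Q (mat u ^ 0 *ᵥ w) (nm (mat u) *ᵥ w) = 0 := by rw [hw, map_zero]
    unfold nm at h1
    simp only [add_mulVec, map_add] at h1
    rw [hβ, hβ, hβ, hβ, hβ, pow_one]
    simpa using h1
  have h3 : β 0 3 = β 0 2 := by rw [← hs 0 3, ← hs 1 4, h5, hc]
  have h4 : β 0 4 = β 0 1 := by rw [← hs 0 4, h5, hc]
  have h00 : β 0 0 = -2 * β 0 1 - 2 * β 0 2 := by rw [h3, h4] at h0; linear_combination h0
  have e11 : β 1 1 = β 0 0 := hs 0 0
  have e22 : β 2 2 = β 0 0 := (hs 1 1).trans e11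
  have e33 : β 3 3 = β 0 0 := (hs 2 2).trans e22
  have e12 : β 1 2 = β 0 1 := hs 0 1
  have e23 : β 2 3 = β 0 1 := (hs 1 2).trans e12
  have e13 : β 1 3 = β 0 2 := hs 0 2
  refine ⟨β 0 1, β 0 2, ?_⟩
  ext i j
  change polarBilin Q (mat u ^ (i : ℕ) *ᵥ w) (mat u ^ (j : ℕ) *ᵥ w) = _
  rw [← hβ]
  fin_cases i <;> fin_cases j
  · exact h00
  · rfl
  · rfl
  · exact h3
  · exact hc 1 0
  · exact e11.trans h00
  · exact e12
  · exact e13
  · exact hc 2 0
  · exact (hc 2 1).trans e12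
  · exact e22.trans h00
  · exact e23
  · exact (hc 3 0).trans h3
  · exact (hc 3 1).trans e13
  · exact (hc 3 2).trans e23
  · exact e33.trans h00

theorem comm_refl {Q : QuadraticForm F (ι → F)} {a : ι → F} (ha : Q a ≠ 0) (g : isometryGroup F ⇑Q)
    (hg : Spinor.ac g a = a) : Commute g (reflIso Q a ha) := by
  classical
  apply isometryGroup_ext
  intro x
  change Spinor.ac (g * reflIso Q a ha) x = Spinor.ac (reflIso Q a ha * g) x
  have h1 := Spinor.polar_ac Q g a x
  rw [hg] at h1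
  rw [Spinor.ac_mul, Spinor.ac_mul, Spinor.ac_reflIso, Spinor.ac_reflIso, h1, sub_eq_add_neg, Spinor.ac_add,
    ← neg_smul, Spinor.ac_smul, hg, neg_smul, ← sub_eq_add_neg]

namespace Pair

variable {u₁ u₂ : Omega F R}

/-- an involution of `Ω` which commutes with a fixed point free element of order five is central -/
theorem inv_central (h : Pair u₁ u₂) (h2 : (2 : F) ≠ 0) {u e : Omega F R} (hu : u ^ 5 = 1)
    (hf : ∀ v, mat u *ᵥ v = v → v = 0) (he : e ^ 2 = 1) (hc : Commute e u) :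
    e ∈ Subgroup.center (Omega F R) := by
  classical
  rw [h.cen]
  obtain ⟨Q, rfl, hQ, -⟩ := h.fm.ex
  have hu' : mat u ^ 5 = 1 := by rw [← mat_pow, hu, mat_one]
  have hee : ∀ v, mat e *ᵥ (mat e *ᵥ v) = v := fun v => by
    rw [mulVec_mulVec, ← mat_mul, ← pow_two, he, mat_one, one_mulVec]
  obtain ⟨E, hE⟩ : ∃ E, E = Spinor.em e.1 := ⟨_, rfl⟩
  have hm : ∀ v, v ∈ E ↔ mat e *ᵥ v = -v := fun v => by rw [hE]; exact Iff.rfl
  have hinv : ∀ w ∈ E, mat u *ᵥ w ∈ E := by
    intro w hw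
    rw [hm] at hw ⊢
    rw [mulVec_mulVec, (mat_comm hc).eq, ← mulVec_mulVec, hw, mulVec_neg]
  have hsub : ∀ v, v - mat e *ᵥ v ∈ E := fun v => by rw [hm, mulVec_sub, hee, neg_sub]
  have h4 := four_dvd h.mp.q5 hu' E hinv fun w _ => hf w
  have h8 : finrank F E ≤ 8 := by
    have := Submodule.finrank_le E
    rwa [Module.finrank_fintype_fun_eq_card, h.mp.c8] at this
  have hcs : finrank F E = 0 ∨ finrank F E = 8 ∨ finrank F E = 4 := by omega
  rcases hcs with h0 | h0 | h0
  · left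
    apply Matrix.mulVec_injective
    funext v
    have h1 := hsub v
    rw [Submodule.finrank_eq_zero.1 h0, Submodule.mem_bot, sub_eq_zero] at h1
    rw [one_mulVec, ← h1]
  · right
    apply Matrix.mulVec_injective
    funext v
    have h1 : E = ⊤ := Submodule.eq_top_of_finrank_eq (by rw [Module.finrank_fintype_fun_eq_card, h.mp.c8, h0])
    rw [neg_mulVec, one_mulVec]
    exact (hm v).1 (h1 ▸ Submodule.mem_top)
  exfalso
  obtain ⟨w, hw, w0⟩ : ∃ w ∈ E, w ≠ 0 := by
    apply Submodule.exists_mem_ne_zero_of_ne_bot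
    intro h1
    rw [h1, finrank_bot] at h0
    omega
  have hsp := span_cy h.mp.q5 hu' hinv (fun w _ => hf w) h0 hw w0
  obtain ⟨x, y, hG⟩ := gram_cy hu (nm_zero hu' hinv (fun w _ => hf w) hw)
  have h5 := h.mp.q5.not_isSquare h2
  have hs : x ^ 2 + 3 * x * y + y ^ 2 ≠ 0 := by
    intro hs
    have hy : y = 0 := by
      by_contra hy
      refine h5 ⟨(2 * x + 3 * y) / y, ?_⟩
      field_simp
      linear_combination (-4) * hs
    have hx : x = 0 := by
      rw [hy] at hs
      simpa using hs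
    have h6 : ∀ j, polarBilin Q w (cy (mat u) w j) = 0 := by
      intro j
      have h7 := congrFun (congrFun hG 0) j
      have h8 : Spinor.gram (⇑Q) (cy (mat u) w) 0 j = polarBilin Q w (cy (mat u) w j) := by
        change polarBilin Q (mat u ^ 0 *ᵥ w) _ = _
        rw [pow_zero, one_mulVec]
      rw [← h8, h7, hx, hy]
      fin_cases j <;> simp
    have h7 : ∀ v ∈ E, polarBilin Q w v = 0 := by
      intro v hv
      rw [← hsp] at hv
      induction hv using Submodule.span_induction with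
      | mem v hv => obtain ⟨j, rfl⟩ := hv; exact h6 j
      | zero => simp
      | add a b _ _ ha hb => rw [map_add, ha, hb, add_zero]
      | smul c a _ ha => rw [map_smul, ha, smul_zero]
    refine w0 (hQ.1 w fun v => ?_)
    have h9 : polarBilin Q w (v + mat e *ᵥ v) = 0 :=
      Spinor.polar_em_ep h2 Q (g := e.1) (hE ▸ hw) (by
        change mat e *ᵥ (v + mat e *ᵥ v) = v + mat e *ᵥ v
        rw [mulVec_add, hee, add_comm])
    have h10 := h7 _ (hsub v)
    rw [map_sub] at h10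
    rw [map_add] at h9
    have h11 : 2 * polarBilin Q w v = 0 := by linear_combination h9 + h10
    exact (mul_eq_zero.1 h11).resolve_left h2
  have hD : (Spinor.gram (⇑Q) (cy (mat u) w)).det = 5 * (x ^ 2 + 3 * x * y + y ^ 2) ^ 2 := by rw [hG, det_toep]
  have hee' : e.1 * e.1 = 1 := by
    have := congrArg Subtype.val he
    rwa [pow_two] at this
  obtain ⟨-, r, hr⟩ := Spinor.isSquare_of_mem h2 Q hQ (by rw [h.mp.c8]; norm_num) e.1 ⟨e.1, e.2, rfl⟩ hee'
    (cy (mat u) w) (fun i => (hm _).1 (pow_mem hinv hw i))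
    (by rw [hD]; exact mul_ne_zero h.mp.q5.five_ne (pow_ne_zero _ hs)) (by rw [← hE, h0])
  rw [hD] at hr
  generalize x ^ 2 + 3 * x * y + y ^ 2 = s at hs hr
  refine h5 ⟨r / s, ?_⟩
  field_simp
  linear_combination hr

/-- the centralizer of `Q` has odd exponent -/
theorem odd_exp (h : Pair u₁ u₂) :
    ∃ m, Odd m ∧ ∀ c : Omega F R, Commute c u₁ → Commute c u₂ → pr c ^ m = 1 := by
  by_cases h2 : (2 : F) = 0
  · have h3 : Fintype.card F % 2 = 0 := FiniteField.even_card_iff_char_two.1 (by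
      have : CharP F 2 := (CharP.charP_iff_prime_eq_zero Nat.prime_two).2 (by exact_mod_cast h2)
      exact ringChar.eq F 2)
    refine ⟨Fintype.card F ^ 2 + 1, Even.add_one (Nat.even_pow.2 ⟨Nat.even_iff.2 h3, by norm_num⟩),
      fun c h1 h4 => ?_⟩
    rw [← pr_pow, h.cent_pow h1 h4]
    rfl
  · have hr : ringChar F ≠ 2 := fun h3 => h2 (by
      have := ringChar.spec F 2
      rw [h3] at this
      exact_mod_cast this.2 dvd_rfl)
    obtain ⟨k, hk⟩ : Odd (Fintype.card F) := Nat.odd_iff.2 (FiniteField.odd_card_of_char_ne_two hr)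
    refine ⟨2 * (k ^ 2 + k) + 1, ⟨_, rfl⟩, fun c h1 h4 => ?_⟩
    rw [← pr_pow]
    refine (QuotientGroup.eq_one_iff _).2 (h.inv_central h2 (u := u₁ ^ 1 * u₂ ^ 1) (h.pow_five 1 1) (fun v hv => ?_) ?_
      (((h1.pow_right 1).mul_right (h4.pow_right 1)).pow_left _))
    · rw [mat_mul, mat_pow, mat_pow] at hv
      exact h.mp.fpf (by norm_num) (by norm_num) hv
    · rw [← pow_mul, ← h.cent_pow h1 h4, hk]
      congr 1
      ring

/-- a non-central involution which commutes with `u₁` -/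
theorem exists_inv (h : Pair u₁ u₂) (h2 : (2 : F) ≠ 0) :
    ∃ g : Omega F R, g ^ 2 = 1 ∧ Commute g u₁ ∧ g ∉ Subgroup.center (Omega F R) := by
  classical
  simp only [h.cen]
  obtain ⟨Q, rfl, hQ, -⟩ := h.fm.ex
  obtain ⟨W, hW⟩ : ∃ W, W = fx (mat u₁) := ⟨_, rfl⟩
  have h4 : finrank F W = 4 := by rw [hW]; exact h.mp.fin1
  have hinv : Invertible (2 : F) := invertibleOfNonzero h2
  let B : LinearMap.BilinForm F W := (polarBilin Q).compl₁₂ W.subtype W.subtype
  have hB : ∀ x y : W, B x y = polarBilin Q (x : ι → F) y := fun x y => rfl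
  have hsymm : LinearMap.IsSymm B := ⟨fun x y => by
    change B x y = B y x
    rw [hB, hB]
    exact polar_comm _ _ _⟩
  obtain ⟨w, hw'⟩ := LinearMap.BilinForm.exists_orthogonal_basis (B := B) hsymm
  have hw : ∀ i j, i ≠ j → polarBilin Q (w i : ι → F) (w j) = 0 := fun i j hij => hw' hij
  have hort : ∀ (x : W), ∀ v ∈ fx (mat u₂), polarBilin Q (x : ι → F) v = 0 := fun x v hv =>
    h.mp.symm.orth (polarBilin Q) (iso u₂) (hW ▸ x.2) hv
  have hq : ∀ i, Q (w i) ≠ 0 := by
    intro i hi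
    have h1 : ∀ j, B (w i) (w j) = 0 := by
      intro j
      by_cases hij : i = j
      · subst hij
        rw [hB]
        change polar (⇑Q) _ _ = 0
        rw [polar_self', hi, mul_zero]
      · exact hw i j hij
    have h3 : B (w i) = 0 := w.ext fun j => h1 j
    refine w.ne_zero i (Subtype.ext (hQ.1 _ fun v => ?_))
    obtain ⟨v₁, m1, v₂, m2, rfl⟩ := h.mp.dec v
    rw [map_add, hort _ _ m1, zero_add]
    have h5 := hB (w i) ⟨v₂, hW ▸ m2⟩
    rw [h3] at h5
    exact h5.symm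
  obtain ⟨i, j, hij, hsq⟩ : ∃ i j, i ≠ j ∧ IsSquare (Q (w i) * Q (w j)) := by
    have key : ∀ i j, quadraticChar F (Q (w i)) = quadraticChar F (Q (w j)) → IsSquare (Q (w i) * Q (w j)) := by
      intro i j e
      rw [← quadraticChar_one_iff_isSquare (mul_ne_zero (hq i) (hq j)), map_mul, e, ← pow_two,
        quadraticChar_sq_one (hq j)]
    let i0 : Fin (finrank F W) := ⟨0, by omega⟩
    let i1 : Fin (finrank F W) := ⟨1, by omega⟩
    let i2 : Fin (finrank F W) := ⟨2, by omega⟩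
    have n01 : i0 ≠ i1 := fun e => absurd (congrArg Fin.val e) (by simp [i0, i1])
    have n02 : i0 ≠ i2 := fun e => absurd (congrArg Fin.val e) (by simp [i0, i2])
    have n12 : i1 ≠ i2 := fun e => absurd (congrArg Fin.val e) (by simp [i1, i2])
    rcases quadraticChar_dichotomy (hq i0) with a | a <;> rcases quadraticChar_dichotomy (hq i1) with b | b <;>
      rcases quadraticChar_dichotomy (hq i2) with c | c <;>
      first
        | exact ⟨i0, i1, n01, key _ _ (a.trans b.symm)⟩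
        | exact ⟨i0, i2, n02, key _ _ (a.trans c.symm)⟩
        | exact ⟨i1, i2, n12, key _ _ (b.trans c.symm)⟩
  have hmem : reflIso Q (w i) (hq i) * reflIso Q (w j) (hq j) ∈ Omega F ⇑Q := by
    change _ ∈ commutator _
    rw [← Abelianization.ker_of, MonoidHom.mem_ker, map_mul,
      ClassicalGeometry.OmegaIndex.abelianization_of_reflIso_eq h2 Q (hq i) (hq j) hsq, ← map_mul,
      reflIso_mul_self, map_one]
  have hfix : ∀ (k : Fin (finrank F W)) (v : ι → F), polarBilin Q (w k : ι → F) v = 0 →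
      Spinor.ac (reflIso Q (w k) (hq k)) v = v := fun k v hv =>
    reflectionMatrix_mulVec_of_polar_eq_zero Q _ v hv
  have hu : ∀ k, Commute u₁.1 (reflIso Q (w k) (hq k)) := fun k =>
    comm_refl (hq k) u₁.1 (mem_fx.1 (hW ▸ (w k).2))
  have hcm : Commute (reflIso Q (w j) (hq j)) (reflIso Q (w i) (hq i)) :=
    comm_refl (hq i) _ (hfix j _ (hw j i hij.symm))
  have hac : ∀ v, mat (⟨_, hmem⟩ : Omega F ⇑Q) *ᵥ v =
      Spinor.ac (reflIso Q (w i) (hq i)) (Spinor.ac (reflIso Q (w j) (hq j)) v) := fun v => Spinor.ac_mul _ _ v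
  have hneg : ∀ v : ι → F, -v = v → v = 0 := by
    intro v hv
    have h5 : (2 : F) • v = 0 := by
      rw [two_smul]
      nth_rewrite 1 [← hv]
      exact neg_add_cancel v
    exact (smul_eq_zero.1 h5).resolve_left h2
  refine ⟨⟨_, hmem⟩, Subtype.ext ?_, Subtype.ext ((hu i).mul_right (hu j)).symm.eq, ?_⟩
  · change (reflIso Q (w i) (hq i) * reflIso Q (w j) (hq j)) ^ 2 = 1
    rw [hcm.symm.mul_pow, pow_two, pow_two, reflIso_mul_self, reflIso_mul_self, one_mul]
  · rintro (e | e)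
    · have h5 := hac (w i)
      rw [e, one_mulVec, hfix j _ (hw j i hij.symm)] at h5
      have h6 : Spinor.ac (reflIso Q (w i) (hq i)) (w i) = -(w i : ι → F) := reflectionMatrix_mulVec_self Q _ (hq i)
      rw [h6] at h5
      exact w.ne_zero i (Subtype.ext (hneg _ h5.symm))
    · obtain ⟨v, v0, hv⟩ := h.symm.exists_fix
      have h5 := hac v
      rw [e, neg_mulVec, one_mulVec, hfix j v (hort _ _ (mem_fx.2 hv)), hfix i v (hort _ _ (mem_fx.2 hv))] at h5
      exact v0 (hneg _ h5)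

/-- for odd `q` an automorphism of `Ω` does not move `u₁` to an element of support two -/
theorem aut_one_sided (h : Pair u₁ u₂) (h2 : (2 : F) ≠ 0) (β : MulAut (Omega F R)) (hm : pr (β u₁) ∈ QQ u₁ u₂) :
    (∃ i : ℕ, β u₁ = u₁ ^ i) ∨ ∃ i : ℕ, β u₁ = u₂ ^ i := by
  have h5 : β u₁ ^ 5 = 1 := by rw [← map_pow, h.p1, map_one]
  by_contra hn
  obtain ⟨g, g2, gc, gn⟩ := h.exists_inv h2
  have h1 := h.inv_central h2 (e := β g) h5 (fun v hv => by
    by_contra h0
    exact hn (h.one_sided h5 hm h0 hv)) (by rw [← map_pow, g2, map_one]) (gc.map β)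
  refine gn (Subgroup.mem_center_iff.2 fun x => β.injective ?_)
  rw [map_mul, map_mul]
  exact Subgroup.mem_center_iff.1 h1 (β x)

end Pair

end Cfsg.Agent.TO.D4B
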