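import Cfsg.Agent.TO.Cl
import Cfsg.Agent.TO.D4B.Lin
import Cfsg.Agent.H932.Spinor
import Cfsg.Agent.LieClassical.OmegaCenter
import Cfsg.Agent.LieClassical.OrthForms
import Cfsg.Agent.H312.Orth.Inst

/-!
# S4817, `PΩ₈⁺(q)`, `q ≡ ±2 (mod 5)`: the centralizer and the normalizer of the `5²` in `Ω` (helper92)
-/

set_option autoImplicit false
set_option linter.unusedSectionVars false
set_option maxHeartbeats 400000

namespace Cfsg.Agent.TO.D4B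

open Cfsg Matrix Module QuadraticMap
open Cfsg.Agent.ClassicalGeometry.Reflection

section Grp

variable {H : Type*} [Group H]

theorem conj_pow_four {t u : H} (hu : u ^ 5 = 1) (h1 : u ≠ 1) {i : ℕ} (h : t * u * t⁻¹ = u ^ i) :
    Commute (t ^ 4) u := by
  have h2 : ∀ n : ℕ, t ^ n * u * (t ^ n)⁻¹ = u ^ i ^ n := by
    intro n
    induction n with
    | zero => simp
    | succ n ih =>
      have h3 : t ^ (n + 1) * u * (t ^ (n + 1))⁻¹ = t * (t ^ n * u * (t ^ n)⁻¹) * t⁻¹ := by group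
      rw [h3, ih, ← conj_pow, h, ← pow_mul, pow_succ']
  have h3 : ¬ 5 ∣ i := by
    rintro ⟨k, rfl⟩
    rw [pow_mul, hu, one_pow, mul_inv_eq_one, mul_eq_left] at h
    exact h1 h
  have h4 : i ^ 4 % 5 = 1 := by
    have h5 : i % 5 = 1 ∨ i % 5 = 2 ∨ i % 5 = 3 ∨ i % 5 = 4 := by omega
    rw [Nat.pow_mod]
    rcases h5 with h5 | h5 | h5 | h5 <;> rw [h5]
  have h5 := h2 4
  rw [pow_eq_pow_mod _ hu, h4, pow_one, mul_inv_eq_iff_eq_mul] at h5
  exact h5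

end Grp

variable {ι : Type} [Fintype ι] [DecidableEq ι] {F : Type} [Field F] [Fintype F] {R : (ι → F) → F}

theorem mat_mul (x y : Omega F R) : mat (x * y) = mat x * mat y := rfl
theorem mat_one : mat (1 : Omega F R) = 1 := rfl
theorem mat_inj {x y : Omega F R} (h : mat x = mat y) : x = y := Subtype.ext (Subtype.ext (Units.ext h))

theorem mat_pow (x : Omega F R) (n : ℕ) : mat (x ^ n) = mat x ^ n := by
  induction n with
  | zero => rw [pow_zero, pow_zero, mat_one]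
  | succ n ih => rw [pow_succ, pow_succ, mat_mul, ih]

theorem mat_comm {x y : Omega F R} (h : Commute x y) : Commute (mat x) (mat y) := congrArg mat h

theorem mat_inv_vec (x : Omega F R) (v : ι → F) : mat x *ᵥ (mat x⁻¹ *ᵥ v) = v := by
  rw [mulVec_mulVec, ← mat_mul, mul_inv_cancel, mat_one, one_mulVec]

theorem iso {Q : QuadraticForm F (ι → F)} (x : Omega F ⇑Q) (v w : ι → F) :
    polarBilin Q (mat x *ᵥ v) (mat x *ᵥ w) = polarBilin Q v w :=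
  polar_mulVec_of_isometry Q _ (fun y => (mem_isometryGroup_iff _ _).1 x.1.2 y) v w

/-- `R` is a nondegenerate isotropic quadratic form with perfect `Ω` -/
structure Fm (R : (ι → F) → F) : Prop where
  ex : ∃ Q : QuadraticForm F (ι → F), ⇑Q = R ∧ (polarBilin Q).Nondegenerate ∧ ∃ u : ι → F, u ≠ 0 ∧ Q u = 0
  perf : commutator (Omega F R) = ⊤

theorem fm_plus : Fm (quadFormPlus 4 F) := by
  have hn := LieClassical.OrthForms.nondeg_plusForm 4 F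
  have hc := LieClassical.OrthForms.coe_plusForm 4 F
  constructor
  · refine ⟨_, hc, ⟨fun x hx => hn x hx, fun x hx => hn x fun y => (polar_comm _ _ _).trans (hx y)⟩,
      Pi.single (Sum.inl 0) 1, by simp, ?_⟩
    rw [hc]
    simp [quadFormPlus]
  · rw [← hc]
    exact H312.Orth.omega_perfect (LieClassical.OrthFinite.good_of_finite hn
      (by rw [Module.finrank_fintype_fun_eq_card]; simp))

/-- the image in `PΩ` -/
abbrev pr (x : Omega F R) : POmega F R := QuotientGroup.mk x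

theorem pr_mul (x y : Omega F R) : pr (x * y) = pr x * pr y := rfl
theorem pr_inv (x : Omega F R) : pr x⁻¹ = (pr x)⁻¹ := rfl
theorem pr_pow (x : Omega F R) (n : ℕ) : pr (x ^ n) = pr x ^ n := QuotientGroup.mk_pow _ _ _

/-- the two elements of order five -/
structure Pair (u₁ u₂ : Omega F R) : Prop where
  fm : Fm R
  mp : MP (mat u₁) (mat u₂)

namespace Pair

variable {u₁ u₂ : Omega F R}

theorem symm (h : Pair u₁ u₂) : Pair u₂ u₁ := ⟨h.fm, h.mp.symm⟩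

theorem comm (h : Pair u₁ u₂) : Commute u₁ u₂ := mat_inj h.mp.comm

theorem p1 (h : Pair u₁ u₂) : u₁ ^ 5 = 1 := mat_inj (by rw [mat_pow, h.mp.p1, mat_one])

theorem ne1 (h : Pair u₁ u₂) : u₁ ≠ 1 := by
  rintro rfl
  have h1 := h.mp.r1
  rw [mat_one, sub_self, Matrix.rank_zero] at h1
  omega

theorem cen (h : Pair u₁ u₂) (z : Omega F R) : z ∈ Subgroup.center (Omega F R) ↔ mat z = 1 ∨ mat z = -1 := by
  obtain ⟨Q, rfl, hQ, hs⟩ := h.fm.ex
  exact LieClassical.OmegaCenter.mem_center_omega_iff Q hQ (by rw [h.mp.c8]; norm_num) hs z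

theorem cen_sq (h : Pair u₁ u₂) {z : Omega F R} (hz : z ∈ Subgroup.center (Omega F R)) : z ^ 2 = 1 := by
  apply mat_inj
  rw [mat_pow, mat_one]
  rcases (h.cen z).1 hz with h1 | h1 <;> rw [h1] <;> simp

/-- elements of order five lift uniquely -/
theorem eq_of_mk (h : Pair u₁ u₂) {x y : Omega F R} (hx : x ^ 5 = 1) (hy : y ^ 5 = 1) (e : pr x = pr y) :
    x = y := by
  have hz : x⁻¹ * y ∈ Subgroup.center (Omega F R) := QuotientGroup.eq.1 e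
  have h1 : Commute x (x⁻¹ * y) := Subgroup.mem_center_iff.1 hz x
  have h2 : (x⁻¹ * y) ^ 5 = 1 := by
    have h3 := h1.mul_pow 5
    rw [mul_inv_cancel_left, hx, hy, one_mul] at h3
    exact h3.symm
  have h3 : (x⁻¹ * y) ^ 5 = (x⁻¹ * y) ^ 2 * (x⁻¹ * y) ^ 2 * (x⁻¹ * y) := by rw [← pow_add, ← pow_succ]
  rw [h2, h.cen_sq hz, one_mul, one_mul] at h3
  exact inv_mul_eq_one.1 h3.symm

theorem conj_five {x : Omega F R} (hx : x ^ 5 = 1) (c : Omega F R) : (c * x * c⁻¹) ^ 5 = 1 := by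
  rw [conj_pow, hx, mul_one, mul_inv_cancel]

theorem comm_of_mk (h : Pair u₁ u₂) {c x : Omega F R} (hx : x ^ 5 = 1) (e : Commute (pr c) (pr x)) :
    Commute c x := by
  have h1 : c * x * c⁻¹ = x := h.eq_of_mk (conj_five hx c) hx (by
    rw [pr_mul, pr_mul, pr_inv, e.eq, mul_inv_cancel_right])
  exact mul_inv_eq_iff_eq_mul.1 h1

/-- the centralizer has exponent dividing `q² + 1` -/
theorem cent_pow (h : Pair u₁ u₂) {c : Omega F R} (h1 : Commute c u₁) (h2 : Commute c u₂) :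
    c ^ (Fintype.card F ^ 2 + 1) = 1 := by
  obtain ⟨Q, rfl, hQ, -⟩ := h.fm.ex
  have hc := h.mp.mem_adjoin (mat_comm h1) (mat_comm h2)
  apply mat_inj
  apply Matrix.mulVec_injective
  funext w
  rw [mat_one, one_mulVec, ← sub_eq_zero]
  refine hQ.2 _ fun v => ?_
  rw [map_sub, mat_pow, pow_succ, ← mulVec_mulVec,
    ← h.mp.adj_frob (polarBilin Q) (iso u₁) (iso u₂) hc, iso, sub_self]

/-- an element which inverts `u₁` and `u₂` inverts their centralizer -/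
theorem inverts (h : Pair u₁ u₂) {t c : Omega F R} (t1 : t * u₁ * t⁻¹ = u₁⁻¹) (t2 : t * u₂ * t⁻¹ = u₂⁻¹)
    (h1 : Commute c u₁) (h2 : Commute c u₂) : t * c * t⁻¹ = c⁻¹ := by
  have key : ∀ {u : Omega F R}, u ^ 5 = 1 → t * u * t⁻¹ = u⁻¹ → mat t * mat u = mat u ^ 4 * mat t := by
    intro u hu ht
    have h3 : u⁻¹ = u ^ 4 := inv_eq_of_mul_eq_one_left (by rw [← pow_succ, hu])
    rw [h3, mul_inv_eq_iff_eq_mul] at ht
    rw [← mat_pow, ← mat_mul, ← mat_mul, ht]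
  have h3 := h.mp.conj_frob (key h.p1 t1) (key h.symm.p1 t2) (h.mp.mem_adjoin (mat_comm h1) (mat_comm h2))
  rw [← mat_pow, ← mat_mul, ← mat_mul] at h3
  rw [mat_inj h3, mul_inv_cancel_right]
  exact eq_inv_of_mul_eq_one_left (by rw [← pow_succ, h.cent_pow h1 h2])

/-- the subgroup of order 25 of `PΩ` -/
abbrev QQ (u₁ u₂ : Omega F R) : Subgroup (POmega F R) := Subgroup.closure {pr u₁, pr u₂}

theorem pow_five (h : Pair u₁ u₂) (i j : ℕ) : (u₁ ^ i * u₂ ^ j) ^ 5 = 1 := by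
  rw [(h.comm.pow_pow i j).mul_pow, ← pow_mul, ← pow_mul, mul_comm i, mul_comm j, pow_mul, pow_mul, h.p1,
    h.symm.p1, one_pow, one_pow, one_mul]

theorem mem_QQ (h : Pair u₁ u₂) {x : POmega F R} (hx : x ∈ QQ u₁ u₂) : ∃ i j : ℕ, x = pr (u₁ ^ i * u₂ ^ j) := by
  induction hx using Subgroup.closure_induction with
  | mem x hx =>
    rcases hx with rfl | rfl
    · exact ⟨1, 0, by simp⟩
    · exact ⟨0, 1, by simp⟩
  | one => exact ⟨0, 0, by simp⟩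
  | mul x y _ _ hx hy =>
    obtain ⟨i, j, rfl⟩ := hx
    obtain ⟨k, l, rfl⟩ := hy
    refine ⟨i + k, j + l, ?_⟩
    rw [← pr_mul, pow_add, pow_add, (h.comm.symm.pow_pow j k).symm.mul_mul_mul_comm]
  | inv x _ hx =>
    obtain ⟨i, j, rfl⟩ := hx
    refine ⟨i * 4, j * 4, ?_⟩
    rw [← pr_inv, pow_mul, pow_mul, ← (h.comm.pow_pow i j).mul_pow]
    congr 1
    exact inv_eq_of_mul_eq_one_left (by rw [← pow_succ, h.pow_five])

theorem u1_mem : pr u₁ ∈ QQ u₁ u₂ := Subgroup.subset_closure (Or.inl rfl)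
theorem u2_mem : pr u₂ ∈ QQ u₁ u₂ := Subgroup.subset_closure (Or.inr rfl)

theorem QQ_symm : QQ u₂ u₁ = QQ u₁ u₂ := by unfold QQ; rw [Set.pair_comm]

/-- a lift of order five of an element of `Q` -/
theorem lift_QQ (h : Pair u₁ u₂) {x : Omega F R} (hx : x ^ 5 = 1) (hm : pr x ∈ QQ u₁ u₂) :
    ∃ i j : ℕ, x = u₁ ^ i * u₂ ^ j := by
  obtain ⟨i, j, e⟩ := h.mem_QQ hm
  exact ⟨i, j, h.eq_of_mk hx (h.pow_five i j) e⟩

theorem QQ_comm (h : Pair u₁ u₂) {c : POmega F R} (h1 : Commute c (pr u₁)) (h2 : Commute c (pr u₂)) :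
    c ∈ Subgroup.centralizer (QQ u₁ u₂ : Set (POmega F R)) := by
  rw [Subgroup.mem_centralizer_iff]
  intro x hx
  obtain ⟨i, j, rfl⟩ := h.mem_QQ hx
  rw [pr_mul, pr_pow, pr_pow]
  exact ((h1.pow_right i).mul_right (h2.pow_right j)).symm

theorem exists_fix (h : Pair u₁ u₂) : ∃ w : ι → F, w ≠ 0 ∧ mat u₁ *ᵥ w = w := by
  obtain ⟨w, hw, h0⟩ : ∃ w ∈ fx (mat u₁), w ≠ 0 := by
    apply Submodule.exists_mem_ne_zero_of_ne_bot
    intro h1
    have h2 := h.mp.fin1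
    rw [h1, finrank_bot] at h2
    omega
  exact ⟨w, h0, mem_fx.1 hw⟩

/-- an element of `⟨u₁, u₂⟩` with a fixed vector has support one -/
theorem one_sided (h : Pair u₁ u₂) {x : Omega F R} (hx : x ^ 5 = 1) (hm : pr x ∈ QQ u₁ u₂) {w : ι → F}
    (h0 : w ≠ 0) (hw : mat x *ᵥ w = w) : (∃ i : ℕ, x = u₁ ^ i) ∨ ∃ i : ℕ, x = u₂ ^ i := by
  obtain ⟨i, j, rfl⟩ := h.lift_QQ hx hm
  by_cases hi : 5 ∣ i
  · obtain ⟨k, rfl⟩ := hi
    exact Or.inr ⟨j, by rw [pow_mul, h.p1, one_pow, one_mul]⟩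
  by_cases hj : 5 ∣ j
  · obtain ⟨k, rfl⟩ := hj
    exact Or.inl ⟨i, by rw [pow_mul, h.symm.p1, one_pow, mul_one]⟩
  rw [mat_mul, mat_pow, mat_pow] at hw
  exact absurd (h.mp.fpf hi hj hw) h0

theorem conj_one_sided (h : Pair u₁ u₂) {x t : Omega F R} (hx : x ^ 5 = 1) (hm : pr (t * x * t⁻¹) ∈ QQ u₁ u₂)
    {w : ι → F} (h0 : w ≠ 0) (hw : mat x *ᵥ w = w) :
    (∃ i : ℕ, t * x * t⁻¹ = u₁ ^ i) ∨ ∃ i : ℕ, t * x * t⁻¹ = u₂ ^ i := by
  refine h.one_sided (conj_five hx t) hm (w := mat t *ᵥ w) (fun h1 => h0 ?_) ?_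
  · have h2 := mat_inv_vec t⁻¹ w
    rw [inv_inv, h1, mulVec_zero] at h2
    exact h2.symm
  · rw [mulVec_mulVec, ← mat_mul, inv_mul_cancel_right, mat_mul, ← mulVec_mulVec, hw]

theorem not_both (h : Pair u₁ u₂) {t y : Omega F R} {w : ι → F} (h0 : w ≠ 0) (hw : mat y *ᵥ w = w) {i j : ℕ}
    (h1 : t * u₁ * t⁻¹ = y ^ i) (h2 : t * u₂ * t⁻¹ = y ^ j) : False := by
  have key : ∀ {u : Omega F R} {k : ℕ}, t * u * t⁻¹ = y ^ k → mat u *ᵥ (mat t⁻¹ *ᵥ w) = mat t⁻¹ *ᵥ w := by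
    intro u k hk
    have h3 : u * t⁻¹ = t⁻¹ * y ^ k := by rw [← hk]; group
    rw [mulVec_mulVec, ← mat_mul, h3, mat_mul, mat_pow, ← mulVec_mulVec, pow_mulVec_fix hw]
  have h3 := h.mp.disj (mem_fx.2 (key h2)) (key h1)
  have h4 := mat_inv_vec t w
  rw [h3, mulVec_zero] at h4
  exact h0 h4.symm

/-- **the normalizer** -/
theorem norm (h : Pair u₁ u₂) {t : Omega F R} (h1 : pr (t * u₁ * t⁻¹) ∈ QQ u₁ u₂)
    (h2 : pr (t * u₂ * t⁻¹) ∈ QQ u₁ u₂) : (∃ i j : ℕ, t * u₁ * t⁻¹ = u₁ ^ i ∧ t * u₂ * t⁻¹ = u₂ ^ j) ∨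
      ∃ i j : ℕ, t * u₁ * t⁻¹ = u₂ ^ i ∧ t * u₂ * t⁻¹ = u₁ ^ j := by
  obtain ⟨w₁, n1, f1⟩ := h.exists_fix
  obtain ⟨w₂, n2, f2⟩ := h.symm.exists_fix
  rcases h.conj_one_sided h.p1 h1 n1 f1 with ⟨i, hi⟩ | ⟨i, hi⟩ <;>
    rcases h.conj_one_sided h.symm.p1 h2 n2 f2 with ⟨j, hj⟩ | ⟨j, hj⟩
  · exact (h.not_both n1 f1 hi hj).elim
  · exact Or.inl ⟨i, j, hi, hj⟩
  · exact Or.inr ⟨i, j, hi, hj⟩
  · exact (h.not_both n2 f2 hi hj).elim

theorem pow_eight (h : Pair u₁ u₂) {t : Omega F R} (h1 : pr (t * u₁ * t⁻¹) ∈ QQ u₁ u₂)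
    (h2 : pr (t * u₂ * t⁻¹) ∈ QQ u₁ u₂) : Commute (t ^ 8) u₁ ∧ Commute (t ^ 8) u₂ := by
  rcases h.norm h1 h2 with ⟨i, j, hi, hj⟩ | ⟨i, j, hi, hj⟩
  · have e : t ^ 8 = (t ^ 4) ^ 2 := by rw [← pow_mul]
    rw [e]
    exact ⟨(conj_pow_four h.p1 h.ne1 hi).pow_left 2, (conj_pow_four h.symm.p1 h.symm.ne1 hj).pow_left 2⟩
  · have e : t ^ 8 = (t ^ 2) ^ 4 := by rw [← pow_mul]
    have key : ∀ {x y : Omega F R} {k l : ℕ}, t * x * t⁻¹ = y ^ k → t * y * t⁻¹ = x ^ l →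
        t ^ 2 * x * (t ^ 2)⁻¹ = x ^ (l * k) := by
      intro x y k l hk hl
      have h3 : t ^ 2 * x * (t ^ 2)⁻¹ = t * (t * x * t⁻¹) * t⁻¹ := by rw [pow_two]; group
      rw [h3, hk, ← conj_pow, hl, ← pow_mul]
    rw [e]
    exact ⟨conj_pow_four h.p1 h.ne1 (key hi hj), conj_pow_four h.symm.p1 h.symm.ne1 (key hj hi)⟩

end Pair

end Cfsg.Agent.TO.D4B
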